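import Cfsg.Agent.DH.Ch3

/-! The character inequality in group theoretic form. -/

set_option autoImplicit false
set_option linter.unusedSectionVars false

namespace Cfsg.Agent.DH

open Subgroup Cfsg.Agent.FT
open scoped Classical ComplexConjugate

universe u
variable {G : Type u} [Group G] [Finite G]

theorem exists_omega (K : Subgroup G) (u : G) (n : ℕ) (hu : orderOf u = 2 ^ n) (hK : Odd ♯K)
    (huK : u ∈ 𝐍(K)) : ∃ (ω : G → ℂ) (ζ : ℂ), IsPrimitiveRoot ζ (2 ^ n) ∧ Lin (K ⊔ zpowers u) ω ∧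
      (∀ k ∈ K, ∀ i : ℕ, ω (k * u ^ i) = ζ ^ i) ∧ ∀ x ∈ K ⊔ zpowers u, ∃ k ∈ K, ∃ i : ℕ, x = k * u ^ i := by
  have hζ := Complex.isPrimitiveRoot_exp (2 ^ n) (by positivity)
  generalize Complex.exp _ = ζ at hζ
  have hdec : ∀ x ∈ K ⊔ zpowers u, ∃ k ∈ K, ∃ i : ℕ, x = k * u ^ i := by
    intro x hx
    obtain ⟨k, hk, y, hy, rfl⟩ := (mem_sup_of_le_normalizer' (zpowers_le.2 huK)).1 hx
    obtain ⟨i, rfl⟩ := mem_powers_iff_mem_zpowers.2 hy
    exact ⟨k, hk, i, rfl⟩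
  have hun : ∀ i : ℕ, ∀ k ∈ K, u ^ i * k * (u ^ i)⁻¹ ∈ K := fun i k hk =>
    (mem_normalizer_iff.1 (pow_mem huK i) k).1 hk
  have hwd : ∀ k ∈ K, ∀ k' ∈ K, ∀ i j : ℕ, k * u ^ i = k' * u ^ j → ζ ^ i = ζ ^ j := by
    have aux : ∀ i : ℕ, u ^ i ∈ K → ζ ^ i = 1 := fun i hi => by
      have h1 : orderOf (u ^ i) ∣ 2 ^ n := hu ▸ orderOf_pow_dvd i
      have h2 : orderOf (u ^ i) ∣ ♯K := K.orderOf_dvd_natCard hi
      have h3 : orderOf (u ^ i) = 1 := Nat.eq_one_of_dvd_coprimes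
        ((Nat.coprime_two_left.2 hK).pow_left n) h1 h2
      rw [hζ.pow_eq_one_iff_dvd, ← hu]
      exact orderOf_dvd_of_pow_eq_one (orderOf_eq_one_iff.1 h3)
    have aux2 : ∀ k ∈ K, ∀ k' ∈ K, ∀ i d : ℕ, k * u ^ i = k' * u ^ (d + i) → ζ ^ i = ζ ^ (d + i) := by
      intro k hk k' hk' i d e
      rw [pow_add, ← mul_assoc, mul_left_inj] at e
      rw [pow_add, aux d (by rw [show u ^ d = k'⁻¹ * k by rw [e]; group]; exact K.mul_mem (K.inv_mem hk') hk),
        one_mul]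
    intro k hk k' hk' i j e
    rcases le_total i j with h | h
    · obtain ⟨d, rfl⟩ := Nat.exists_eq_add_of_le' h; exact aux2 k hk k' hk' i d e
    · obtain ⟨d, rfl⟩ := Nat.exists_eq_add_of_le' h; exact (aux2 k' hk' k hk j d e.symm).symm
  choose! kk hkk ii hii using hdec
  let ω : G → ℂ := fun x => if x ∈ K ⊔ zpowers u then ζ ^ ii x else 0
  have hm : ∀ k ∈ K, ∀ i : ℕ, k * u ^ i ∈ K ⊔ zpowers u := fun k hk i =>
    mul_mem (mem_sup_left hk) (mem_sup_right (pow_mem (mem_zpowers u) i))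
  have hω : ∀ k ∈ K, ∀ i : ℕ, ω (k * u ^ i) = ζ ^ i := fun k hk i => by
    simp only [ω, if_pos (hm k hk i)]
    exact hwd _ (hkk _ (hm k hk i)) k hk _ _ (hii _ (hm k hk i)).symm
  refine ⟨ω, ζ, hζ, lin_of_hom (fun x hx => if_neg hx) (by simpa using hω 1 (one_mem K) 0) fun x hx y hy => ?_,
    hω, fun x hx => ⟨_, hkk x hx, _, hii x hx⟩⟩
  rw [hii x hx, hii y hy, hω _ (hkk x hx), hω _ (hkk y hy),
    show kk x * u ^ ii x * (kk y * u ^ ii y) = kk x * (u ^ ii x * kk y * (u ^ ii x)⁻¹) * u ^ (ii x + ii y) by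
      rw [pow_add]; group,
    hω _ (K.mul_mem (hkk x hx) (hun _ _ (hkk y hy))), pow_add]

theorem char_ineq {G : Type*} [Group G] [Finite G] (L : Subgroup G) (hL2 : L.index = 2)
    (hmin : ∀ N : Subgroup G, N.Normal → ∀ x ∈ N, x ∈ L → x ≠ 1 → L ≤ N) (z a u : G) (K : Subgroup G)
    (n : ℕ) (hn : 2 ≤ n) (hu : orderOf u = 2 ^ n) (hz : z = u ^ (2 ^ (n - 1))) (huL : u ∉ L) (haL : a ∉ L)
    (ha : orderOf a = 2) (hau : a * u * a⁻¹ = u⁻¹) (hK : Odd (Nat.card K))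
    (hKz : K ≤ centralizer {z}) (hKn : centralizer {z} ≤ normalizer (K : Set G))
    (hH : ∀ h ∈ centralizer ({z} : Set G), ∃ k ∈ K, ∃ i : ℕ, h = k * u ^ i ∨ h = k * u ^ i * a)
    (hzc : ∃ g, g * z * g⁻¹ ≠ z) :
    (Nat.card {b // IsConj a b}) ^ 2 <
      3 * (Nat.card {b // IsConj a b ∧ b * z = z * b}) ^ 2 * (centralizer ({z} : Set G)).index := by
  obtain ⟨m, rfl⟩ : ∃ m, n = m + 2 := ⟨n - 2, by omega⟩
  have hz' : z = u ^ (2 ^ (m + 1)) := hz
  have uz : u * z = z * u := by rw [hz', ← pow_succ, ← pow_succ']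
  have huK : u ∈ 𝐍(K) := hKn (mem_centralizer_singleton_iff.2 uz)
  obtain ⟨ω, ζ, hζ, lin, hω, dec⟩ := exists_omega K u (m + 2) hu hK huK
  have ωu : ∀ i : ℕ, ω (u ^ i) = ζ ^ i := fun i => by simpa using hω 1 (one_mem K) i
  have z2 : orderOf z = 2 := by
    rw [hz', orderOf_pow' _ (by positivity), hu, Nat.gcd_eq_right (pow_dvd_pow 2 (by omega)), pow_succ' 2 (m + 1)]
    exact Nat.mul_div_cancel _ (by positivity)
  have zz := sq_of_two z2
  have aa := sq_of_two ha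
  have az : a * z = z * a := by
    have : a * z * a⁻¹ = z⁻¹ := by rw [hz', ← conj_pow, hau, inv_pow]
    rw [inv_eq_of_mul_eq_one_right zz] at this
    rw [← mul_inv_eq_iff_eq_mul, this]
  have haK : a ∈ 𝐍(K) := hKn (mem_centralizer_singleton_iff.2 az)
  have ωz : ω z = -1 := by
    rw [hz', ωu]
    exact (hζ.pow (by positivity) (by rw [← pow_succ])).eq_neg_one_of_two_right
  have zU : z ∈ K ⊔ zpowers u := mem_sup_right (hz' ▸ pow_mem (mem_zpowers u) _)
  have ker : ∀ x ∈ K ⊔ zpowers u, ω x = 1 → x ∈ K := fun x hx e => by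
    obtain ⟨k, hk, i, rfl⟩ := dec x hx
    rw [hω k hk, hζ.pow_eq_one_iff_dvd, ← hu] at e
    rwa [orderOf_dvd_iff_pow_eq_one.1 e, mul_one]
  have UH : ∀ x ∈ K ⊔ zpowers u, x * z = z * x := fun x hx =>
    mem_centralizer_singleton_iff.1 ((sup_le hKz (zpowers_le.2 (mem_centralizer_singleton_iff.2 uz))) hx)
  have KL : K ≤ L := fun k hk => by
    obtain ⟨j, hj⟩ := hK
    have : k = (k ^ (j + 1)) ^ 2 := by
      rw [← pow_mul, show (j + 1) * 2 = Nat.card K + 1 by omega, pow_succ,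
        orderOf_dvd_iff_pow_eq_one.1 (K.orderOf_dvd_natCard hk), one_mul]
    rw [this]; exact sq_mem_of_index_two hL2 _
  have invol : ∀ t ∈ K ⊔ zpowers u, orderOf t = 2 → t = z := fun t ht t2 => by
    have o2 : ∀ s ∈ K, s * s = 1 → s = 1 := fun s hs e => by
      by_contra c
      have : orderOf s = 2 := orderOf_eq_prime (by rw [sq, e]) c
      exact (Nat.not_even_iff_odd.2 hK) (even_iff_two_dvd.2 (this ▸ K.orderOf_dvd_natCard hs))
    have h1 : ω t * ω t = 1 := by rw [← lin.map_mul_left ht, sq_of_two t2, lin.one]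
    rcases mul_self_eq_one_iff.1 h1 with h2 | h2
    · have := o2 t (ker t ht h2) (sq_of_two t2); rw [this, orderOf_one] at t2; omega
    · have := o2 (t * z) (ker _ (mul_mem ht zU) (by rw [lin.map_mul_left ht, h2, ωz]; norm_num)) (by
        rw [mul_assoc, ← mul_assoc z, ← UH t ht, mul_assoc t z, zz, mul_one, sq_of_two t2])
      rw [eq_inv_of_mul_eq_one_left this, inv_eq_of_mul_eq_one_right zz]
  have zL : z ∈ L := by rw [hz', pow_succ, pow_mul]; exact sq_mem_of_index_two hL2 _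
  have cj1 : ∀ k ∈ K, ∀ i : ℕ, a * (k * u ^ i) * a⁻¹ = (a * k * a⁻¹) * (u ^ i)⁻¹ := fun k _ i => by
    rw [← inv_pow, ← hau, conj_pow]; group
  refine CD.ineq (L := L) (U := K ⊔ zpowers u) (u := u) (ω := ω)
    ⟨hL2, hmin, lin, zL, z2, hzc, haL, ha, az, mem_sup_right (mem_zpowers u), huL, ?_, UH,
      fun e => haL (invol a e ha ▸ zL), fun h hh => ?_, fun x hx => ?_, fun x hx => ?_, fun x hx e => ?_,
      fun x hx e => KL (ker x hx e), zU, ωz⟩
  · have := ωu 1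
    rw [pow_one, pow_one] at this
    rw [this, Ne, hζ.pow_eq_one_iff_dvd]
    intro e
    have := Nat.le_of_dvd (by norm_num) e
    have : 2 ^ 2 ≤ 2 ^ (m + 2) := Nat.pow_le_pow_right (by norm_num) (by omega)
    omega
  · obtain ⟨k, hk, i, rfl | rfl⟩ := hH h (mem_centralizer_singleton_iff.2 hh)
    · exact Or.inl (mul_mem (mem_sup_left hk) (mem_sup_right (pow_mem (mem_zpowers u) i)))
    · right; rw [mul_assoc, aa, mul_one]
      exact mul_mem (mem_sup_left hk) (mem_sup_right (pow_mem (mem_zpowers u) i))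
  · obtain ⟨k, hk, i, rfl⟩ := dec x hx
    rw [cj1 k hk]
    exact mul_mem (mem_sup_left ((mem_normalizer_iff.1 haK k).1 hk))
      (mem_sup_right (inv_mem (pow_mem (mem_zpowers u) i)))
  · obtain ⟨k, hk, i, rfl⟩ := dec x hx
    have h1 := (mem_normalizer_iff.1 haK k).1 hk
    have h2 := hω _ h1 0
    rw [pow_zero, mul_one, pow_zero] at h2
    rw [cj1 k hk, lin.map_mul_left (mem_sup_left h1), h2, one_mul, char_inv lin.char, ωu, hω k hk]
  · have h1 : 2 ∣ orderOf x := by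
      by_contra c
      obtain ⟨k, hk, i, rfl⟩ := dec x hx
      have h2 := lin.pow_orderOf hx
      rw [hω k hk] at e h2
      rw [← pow_mul, hζ.pow_eq_one_iff_dvd] at h2
      exact e ((hζ.pow_eq_one_iff_dvd i).2 (((Nat.prime_two.coprime_iff_not_dvd.2 c).pow_left _).dvd_of_dvd_mul_right h2))
    have h2 : orderOf (x ^ (orderOf x / 2)) = 2 := orderOf_pow_orderOf_div (orderOf_pos x).ne' h1
    rw [← invol _ (pow_mem hx _) h2]
    exact pow_mem (mem_zpowers x) _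

end Cfsg.Agent.DH
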