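import Cfsg.Agent.FT.Char4
import Cfsg.Agent.H3.Invol

/-! Induced virtual characters for a group with dihedral Sylow 2-subgroups and a subgroup of index 2. -/

set_option autoImplicit false
set_option linter.unusedSectionVars false

namespace Cfsg.Agent.DH

open Subgroup Cfsg.Agent.FT
open scoped Classical ComplexConjugate

universe u
variable {G : Type u} [Group G] [Finite G]

structure CD (L U : Subgroup G) (z a u : G) (ω : G → ℂ) : Prop where
  idx : L.index = 2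
  min : ∀ N : Subgroup G, N.Normal → ∀ x ∈ N, x ∈ L → x ≠ 1 → L ≤ N
  lin : Lin U ω
  zL : z ∈ L
  z2 : orderOf z = 2
  zc : ∃ g, g * z * g⁻¹ ≠ z
  aL : a ∉ L
  a2 : orderOf a = 2
  az : a * z = z * a
  uU : u ∈ U
  uL : u ∉ L
  ωu : ω u ^ 2 ≠ 1
  UH : ∀ x ∈ U, x * z = z * x
  aU : a ∉ U
  H2 : ∀ h, h * z = z * h → h ∈ U ∨ h * a ∈ U
  invU : ∀ x ∈ U, a * x * a⁻¹ ∈ U
  inv : ∀ x ∈ U, ω (a * x * a⁻¹) = conj (ω x)
  ti : ∀ x ∈ U, ω x ≠ 1 → z ∈ zpowers x
  kerL : ∀ x ∈ U, ω x = 1 → x ∈ L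
  zU : z ∈ U
  ωz : ω z = -1

variable {L U : Subgroup G} {z a u : G} {ω : G → ℂ}

/-- the support set -/
def AA (U : Subgroup G) (ω : G → ℂ) : Set G := {x | x ∈ U ∧ ω x ≠ 1}

theorem sq_of_two {x : G} (h : orderOf x = 2) : x * x = 1 := by
  rw [← pow_two, ← h, pow_orderOf_eq_one]

namespace CD
variable (h : CD L U z a u ω)
include h

theorem Ln : L.Normal := normal_of_index_eq_two h.idx
theorem aa : a * a = 1 := sq_of_two h.a2
theorem ainv : a⁻¹ = a := inv_eq_of_mul_eq_one_right h.aa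

theorem conj_comm {x y : G} (hx : x ∈ AA U ω) (hy : y * x * y⁻¹ ∈ AA U ω) : y * z = z * y := by
  have h1 := h.ti _ hy.1 hy.2
  have h2 : y * z * y⁻¹ ∈ zpowers (y * x * y⁻¹) := by
    obtain ⟨k, hk⟩ := mem_zpowers_iff.1 (h.ti _ hx.1 hx.2)
    exact mem_zpowers_iff.2 ⟨k, by rw [conj_zpow, hk]⟩
  have h3 : orderOf (y * z * y⁻¹) = 2 := by
    rw [← h.z2]; exact (MulAut.conj y).orderOf_eq z
  have := H3.involution_unique_in_zpowers h3 h.z2 h2 h1
  calc y * z = (y * z * y⁻¹) * y := by group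
    _ = z * y := by rw [this]

theorem ind_val {φ : G → ℂ} (hφ : φ ∈ CF U) (hs : φ ∈ supp (AA U ω)) {x : G} (hx : x ∈ AA U ω) :
    Ind U ⊤ φ x = φ x + φ (a * x * a⁻¹) := by
  rw [Ind_apply_supp ⊤ (cf_supp hφ)]
  have e1 : ∑ y ∈ els ((⊤ : Subgroup G) : Set G), φ (y * x * y⁻¹) =
      ∑ y ∈ els {y : G | y * z = z * y}, φ (y * x * y⁻¹) :=
    (sum_els_subset (fun _ _ => mem_top _) _ fun y _ hy => by
      by_contra e; exact hy (h.conj_comm hx (mem_of_supp hs e))).symm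
  have hU : (U : Set G) ⊆ {y : G | y * z = z * y} := fun y hy => h.UH y hy
  have e2 : ∑ y ∈ els ({y : G | y * z = z * y} \ U), φ (y * x * y⁻¹) =
      ∑ y ∈ els (U : Set G), φ (y * a * x * (y * a)⁻¹) := by
    refine (sum_els_bij (fun y => φ (y * x * y⁻¹)) (fun y => y * a) (fun y => y * a) ?_ ?_ ?_ ?_).symm
    · intro y hy
      refine ⟨?_, fun e => h.aU ?_⟩
      · show y * a * z = z * (y * a)
        rw [mul_assoc, h.az, ← mul_assoc, h.UH y hy, mul_assoc]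
      · have := U.mul_mem (U.inv_mem hy) e
        rwa [inv_mul_cancel_left] at this
    · intro y hy
      exact (h.H2 y hy.1).resolve_left hy.2
    · intro y _; show y * a * a = y; rw [mul_assoc, h.aa, mul_one]
    · intro y _; show y * a * a = y; rw [mul_assoc, h.aa, mul_one]
  rw [e1, sum_els_diff hU, e2, Finset.sum_congr rfl (g := fun _ => φ (a * x * a⁻¹)) fun y hy => by
      rw [← cfJ hφ (mem_els.1 hy) (a * x * a⁻¹)]; congr 1; group,
    Finset.sum_congr rfl (g := fun _ => φ x) fun y hy => cfJ hφ (mem_els.1 hy) x,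
    sum_els_const, sum_els_const]
  have := cardC_ne_zero U
  field_simp; ring

theorem ind_dot {φ ψ ψ' : G → ℂ} (hφ : φ ∈ supp (AA U ω)) (hψ : ψ ∈ CF U) (hs : ψ ∈ supp (AA U ω))
    (e : ∀ x ∈ U, ψ (a * x * a⁻¹) = ψ' x) :
    dot ⊤ (Ind U ⊤ φ) (Ind U ⊤ ψ) = dot U φ (ψ + ψ') := by
  rw [dot_Ind_left le_top _ (Ind_mem_CF le_top _)]
  exact dot_congr_supp hφ fun x hx => by rw [h.ind_val hψ hs hx, Pi.add_apply, e x hx.1]

/-- conjugates of `a` are not in `U` -/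
theorem conj_a_notin {g : G} : g * a * g⁻¹ ∉ U := fun hU => by
  have hL : g * a * g⁻¹ ∉ L := fun e => h.aL (by
    have := h.Ln.conj_mem _ e g⁻¹
    rwa [show g⁻¹ * (g * a * g⁻¹) * g⁻¹⁻¹ = a by group] at this)
  have h1 := h.ti _ hU fun e => hL (h.kerL _ hU e)
  have h3 : orderOf (g * a * g⁻¹) = 2 := by
    rw [← h.a2]; exact (MulAut.conj g).orderOf_eq a
  exact hL (H3.involution_unique_in_zpowers h.z2 h3 h1 (mem_zpowers _) ▸ h.zL)

theorem ind_a {φ : G → ℂ} (hφ : φ ∈ CF U) : Ind U ⊤ φ a = 0 := by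
  rw [Ind_apply_supp ⊤ (cf_supp hφ), Finset.sum_eq_zero fun y _ => cf0 hφ h.conj_a_notin, mul_zero]

end CD

/-- the sign character of `G` with kernel `L` -/
noncomputable def sg (L : Subgroup G) : G → ℂ := fun x => if x ∈ L then 1 else -1

theorem sg_lin (h : L.index = 2) : Lin ⊤ (sg L) :=
  lin_of_hom (fun x hx => absurd (mem_top x) hx) (by simp [sg]) fun x _ y _ => by
    simp only [sg, mul_mem_iff_of_index_two h]
    by_cases hx : x ∈ L <;> by_cases hy : y ∈ L <;> simp [hx, hy]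

theorem val_invol {χ : G → ℂ} (hχ : χ ∈ Char (⊤ : Subgroup G)) {t : G} (ht : orderOf t = 2) :
    ∃ p q : ℕ, χ 1 = p + q ∧ χ t = p - q ∧ (p = 0 → ∀ y, χ (t * y) = - χ y) := by
  obtain ⟨s, h1, h2, h3⟩ := char_val hχ (mem_top t)
  have h4 : ∀ ζ ∈ s, ζ = 1 ∨ ζ = -1 := fun ζ hζ => by
    have := h1 ζ hζ; rw [ht] at this; exact mul_self_eq_one_iff.1 (by rw [← sq]; exact this)
  have key : ∀ s : Multiset ℂ, (∀ ζ ∈ s, ζ = 1 ∨ ζ = -1) → ∃ p q : ℕ, (s.card : ℂ) = p + q ∧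
      s.sum = p - q ∧ (p = 0 → ∀ ζ ∈ s, ζ = -1) := by
    intro s
    induction s using Multiset.induction_on with
    | empty => intro _; exact ⟨0, 0, by simp⟩
    | cons b s ih =>
      intro hs
      obtain ⟨p, q, e1, e2, e3⟩ := ih fun ζ hζ => hs ζ (Multiset.mem_cons_of_mem hζ)
      rcases hs b (Multiset.mem_cons_self _ _) with rfl | rfl
      · exact ⟨p + 1, q, by simp [e1]; ring, by simp [e2]; ring, by omega⟩
      · refine ⟨p, q + 1, by simp [e1]; ring, by simp [e2]; ring, fun e ζ hζ => ?_⟩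
        rcases Multiset.mem_cons.1 hζ with rfl | hζ
        · rfl
        · exact e3 e ζ hζ
  obtain ⟨p, q, e1, e2, e3⟩ := key s h4
  refine ⟨p, q, ?_, ?_, fun e y => by rw [h3 (-1) (e3 e)]; ring⟩
  · have := h2 0
    simp only [pow_zero, Multiset.map_const', Multiset.sum_replicate, nsmul_eq_mul, mul_one] at this
    rw [this, e1]
  · have := h2 1
    simp only [pow_one, Multiset.map_id'] at this
    rw [this, e2]

end Cfsg.Agent.DH
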