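import Cfsg.Agent.DH.Ch1

/-! Decomposition of the two induced virtual characters. -/

set_option autoImplicit false
set_option linter.unusedSectionVars false

namespace Cfsg.Agent.DH

open Subgroup Cfsg.Agent.FT
open scoped Classical ComplexConjugate

universe u
variable {G : Type u} [Group G] [Finite G]
variable {L U : Subgroup G} {z a u : G} {ω : G → ℂ}

/-- the two class functions of `U` -/
noncomputable def fa (U : Subgroup G) (ω : G → ℂ) : G → ℂ := ω - triv U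
noncomputable def fb (L U : Subgroup G) : G → ℂ := triv U - Res U (sg L)

theorem dot_lin {φ ψ : G → ℂ} (h1 : Lin U φ) (h2 : Lin U ψ) {x : G} (e : φ x ≠ ψ x) : dot U φ ψ = 0 :=
  dot_irr_ne h1.irr h2.irr fun e' => e (congrFun e' x)

namespace CD
variable (h : CD L U z a u ω)
include h

theorem sgU : Lin U (Res U (sg L)) := (sg_lin h.idx).Res le_top
theorem sgu : Res U (sg L) u = -1 := by rw [Res_of_mem _ h.uU]; simp [sg, h.uL]
theorem fa_v : fa U ω ∈ VChar U := Submodule.sub_mem _ h.lin.vchar (triv_vchar U)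
theorem fb_v : fb L U ∈ VChar U := Submodule.sub_mem _ (triv_vchar U) h.sgU.vchar
theorem fa_s : fa U ω ∈ supp (AA U ω) := fun x hx => by
  by_cases hU : x ∈ U
  · have : ω x = 1 := by_contra fun e => hx ⟨hU, e⟩
    simp [fa, triv_of_mem hU, this]
  · exact cf0 (vchar_CF h.fa_v) hU
theorem fb_s : fb L U ∈ supp (AA U ω) := fun x hx => by
  by_cases hU : x ∈ U
  · have : ω x = 1 := by_contra fun e => hx ⟨hU, e⟩
    simp [fb, triv_of_mem hU, Res_of_mem _ hU, sg, h.kerL x hU this]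
  · exact cf0 (vchar_CF h.fb_v) hU
theorem ω1 : ω u ≠ 1 := fun e => h.ωu (by simp [e])
theorem ωm : ω u ≠ -1 := fun e => h.ωu (by simp [e])
theorem d1 : dot U ω (triv U) = 0 := dot_lin h.lin (lin_triv U) (x := u) (by
  rw [triv_of_mem h.uU]; exact h.ω1)
theorem d2 : dot U ω (Res U (sg L)) = 0 := dot_lin h.lin h.sgU (x := u) (by rw [h.sgu]; exact h.ωm)
theorem d3 : dot U (triv U) (Res U (sg L)) = 0 := dot_lin (lin_triv U) h.sgU (x := u) (by
  rw [h.sgu, triv_of_mem h.uU]; norm_num)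
theorem d4 : dot U ω (star ω) = 0 := dot_lin h.lin h.lin.star (x := u) fun e => h.ωu (by
  have := h.lin.mul_conj h.uU
  rw [star_apply'] at e
  rw [← e] at this; rw [sq, this])
theorem d5 : dot U (triv U) (star ω) = 0 := dot_lin (lin_triv U) h.lin.star (x := u) fun e => h.ω1 (by
  rw [star_apply', triv_of_mem h.uU] at e
  have := congrArg conj e
  simpa using this.symm)

theorem fa_conj {x : G} (hx : x ∈ U) : fa U ω (a * x * a⁻¹) = (star ω - triv U) x := by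
  simp only [fa, Pi.sub_apply, triv_of_mem hx, triv_of_mem (h.invU x hx), h.inv x hx, star_apply']
theorem fb_conj {x : G} (hx : x ∈ U) : fb L U (a * x * a⁻¹) = fb L U x := by
  simp only [fb, Pi.sub_apply, triv_of_mem hx, triv_of_mem (h.invU x hx), Res_of_mem _ hx,
    Res_of_mem _ (h.invU x hx)]
  rw [cfJ (sg_lin h.idx).cf (mem_top a)]

theorem daa : dot ⊤ (Ind U ⊤ (fa U ω)) (Ind U ⊤ (fa U ω)) = 3 := by
  rw [h.ind_dot h.fa_s (vchar_CF h.fa_v) h.fa_s fun x hx => h.fa_conj hx]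
  simp only [fa, dot_sub_left, dot_add_right, dot_sub_right, dot_irr_self h.lin.irr, h.d1, h.d4, h.d5,
    dot_symm_zero h.d1, dot_triv_triv]
  norm_num
theorem dab : dot ⊤ (Ind U ⊤ (fa U ω)) (Ind U ⊤ (fb L U)) = -2 := by
  rw [h.ind_dot h.fa_s (vchar_CF h.fb_v) h.fb_s fun x hx => h.fb_conj hx]
  simp only [fa, fb, dot_sub_left, dot_add_right, dot_sub_right, h.d1, h.d2, h.d3, dot_triv_triv]
  norm_num
theorem dbb : dot ⊤ (Ind U ⊤ (fb L U)) (Ind U ⊤ (fb L U)) = 4 := by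
  rw [h.ind_dot h.fb_s (vchar_CF h.fb_v) h.fb_s fun x hx => h.fb_conj hx]
  simp only [fb, dot_sub_left, dot_add_right, dot_sub_right, h.d3, dot_symm_zero h.d3, dot_triv_triv,
    dot_irr_self h.sgU.irr]
  norm_num
theorem da1 : dot ⊤ (Ind U ⊤ (fa U ω)) (triv ⊤) = -1 := by
  rw [dot_Ind_left le_top _ (triv_mem_CF ⊤), ← dot_Res_right, Res_triv le_top]
  simp only [fa, dot_sub_left, h.d1, dot_triv_triv]; norm_num
theorem das : dot ⊤ (Ind U ⊤ (fa U ω)) (sg L) = 0 := by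
  rw [dot_Ind_left le_top _ (sg_lin h.idx).cf, ← dot_Res_right]
  simp only [fa, dot_sub_left, h.d2, h.d3]; norm_num
theorem db1 : dot ⊤ (Ind U ⊤ (fb L U)) (triv ⊤) = 1 := by
  rw [dot_Ind_left le_top _ (triv_mem_CF ⊤), ← dot_Res_right, Res_triv le_top]
  simp only [fb, dot_sub_left, dot_symm_zero h.d3, dot_triv_triv]; norm_num
theorem dbs : dot ⊤ (Ind U ⊤ (fb L U)) (sg L) = -1 := by
  rw [dot_Ind_left le_top _ (sg_lin h.idx).cf, ← dot_Res_right]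
  simp only [fb, dot_sub_left, h.d3, dot_irr_self h.sgU.irr]; norm_num
theorem d1s : dot ⊤ (triv ⊤) (sg L) = 0 := dot_lin (lin_triv ⊤) (sg_lin h.idx) (x := a) (by
  simp [sg, h.aL, triv_of_mem (mem_top a)]; norm_num)

theorem fa_one : Ind U ⊤ (fa U ω) 1 = 0 := by
  rw [Ind_one le_top]; simp [fa, h.lin.one]
theorem fb_one : Ind U ⊤ (fb L U) 1 = 0 := by
  rw [Ind_one le_top]; simp [fb, h.sgU.one]

/-- `α = -1 + χ - ξ` -/
theorem dec_a : ∃ χ ∈ Irr (⊤ : Subgroup G), ∃ ξ ∈ Irr (⊤ : Subgroup G), χ ≠ ξ ∧ χ ≠ triv ⊤ ∧ ξ ≠ triv ⊤ ∧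
    Ind U ⊤ (fa U ω) = χ - ξ - triv ⊤ := by
  have hv : Ind U ⊤ (fa U ω) + triv ⊤ ∈ VChar (⊤ : Subgroup G) :=
    Submodule.add_mem _ (Ind_vchar le_top h.fa_v) (triv_vchar ⊤)
  have hn : nrm ⊤ (Ind U ⊤ (fa U ω) + triv ⊤) = 2 := nrm_eq_of_dot_nat (n := 2) (by
    rw [dot_add_left, dot_add_right, dot_add_right, h.daa, h.da1, dot_triv_triv,
      dot_symm_int (n := -1) (by simpa using h.da1)]; norm_num)
  have h0 : dot ⊤ (Ind U ⊤ (fa U ω) + triv ⊤) (triv ⊤) = 0 := by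
    rw [dot_add_left, h.da1, dot_triv_triv]; norm_num
  have h1 : (Ind U ⊤ (fa U ω) + triv ⊤ : G → ℂ) 1 = 1 := by simp [h.fa_one]
  obtain ⟨α, β, h2, h3, h4, e⟩ := vchar_nrm_two hv hn
  have pos : ∀ {χ : G → ℂ}, χ ∈ Irr (⊤ : Subgroup G) → ∃ n : ℕ, 0 < n ∧ χ 1 = n := fun hχ =>
    ⟨_, deg_irr_pos hχ, irr_one hχ⟩
  have fin : ∀ χ ∈ Irr (⊤ : Subgroup G), ∀ ξ ∈ Irr (⊤ : Subgroup G), χ ≠ ξ →
      Ind U ⊤ (fa U ω) + triv ⊤ = χ - ξ → ∃ χ ∈ Irr (⊤ : Subgroup G), ∃ ξ ∈ Irr (⊤ : Subgroup G),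
        χ ≠ ξ ∧ χ ≠ triv ⊤ ∧ ξ ≠ triv ⊤ ∧ Ind U ⊤ (fa U ω) = χ - ξ - triv ⊤ := by
    intro χ hχ ξ hξ hne e
    rw [e, dot_sub_left] at h0
    refine ⟨χ, hχ, ξ, hξ, hne, ?_, ?_, by rw [← e]; abel⟩
    · rintro rfl
      rw [dot_triv_triv, dot_irr_ne hξ hχ hne.symm] at h0; norm_num at h0
    · rintro rfl
      rw [dot_triv_triv, dot_irr_ne hχ hξ hne] at h0; norm_num at h0
  rw [e, Pi.sub_apply] at h1
  rcases h2 with h2 | h2 <;> rcases h3 with h3 | h3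
  · exact fin α h2 β h3 (fun e' => by subst e'; rw [dot_irr_self h2] at h4; norm_num at h4) e
  · obtain ⟨m, hm, e1⟩ := pos h2
    obtain ⟨n, hn, e2⟩ := pos h3
    rw [Pi.neg_apply] at e2
    have : (m : ℂ) + n = 1 := by rw [← h1, ← e1, ← e2]; ring
    have : m + n = 1 := by exact_mod_cast this
    omega
  · obtain ⟨m, hm, e1⟩ := pos h2
    obtain ⟨n, hn, e2⟩ := pos h3
    rw [Pi.neg_apply] at e1
    have : (m : ℂ) + n + 1 = 0 := by rw [← h1, ← e1, ← e2]; ring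
    have : m + n + 1 = 0 := by exact_mod_cast this
    omega
  · exact fin (-β) h3 (-α) h2 (fun e' => by
      have : α = β := (neg_injective e').symm
      subst this; simp at h1) (by rw [e]; abel)

theorem fb_L {x : G} (hx : x ∈ L) : Ind U ⊤ (fb L U) x = 0 := by
  rw [Ind_apply_supp ⊤ (cf_supp (vchar_CF h.fb_v)), Finset.sum_eq_zero fun y _ => ?_, mul_zero]
  have hy := h.Ln.conj_mem x hx y
  by_cases hU : y * x * y⁻¹ ∈ U
  · simp [fb, triv_of_mem hU, Res_of_mem _ hU, sg, hy]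
  · exact cf0 (vchar_CF h.fb_v) hU

/-- `β = 1 - sgn + ζ - ζ'` -/
theorem dec_b : ∃ ζ ∈ Irr (⊤ : Subgroup G), ∃ ζ' ∈ Irr (⊤ : Subgroup G), ζ a = -1 ∧ ζ' a = 1 ∧
    dot ⊤ (Ind U ⊤ (fa U ω)) ζ - dot ⊤ (Ind U ⊤ (fa U ω)) ζ' = -1 := by
  have hs := sg_lin h.idx
  have hv : Ind U ⊤ (fb L U) - triv ⊤ + sg L ∈ VChar (⊤ : Subgroup G) :=
    Submodule.add_mem _ (Submodule.sub_mem _ (Ind_vchar le_top h.fb_v) (triv_vchar ⊤)) hs.vchar
  have hn : nrm ⊤ (Ind U ⊤ (fb L U) - triv ⊤ + sg L) = 2 := nrm_eq_of_dot_nat (n := 2) (by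
    simp only [dot_add_left, dot_add_right, dot_sub_left, dot_sub_right, h.dbb, h.db1, h.dbs, h.d1s,
      dot_triv_triv, dot_symm_one h.db1, dot_symm_int (n := -1) (by simpa using h.dbs),
      dot_symm_zero h.d1s, dot_irr_self hs.irr]
    norm_num)
  obtain ⟨ζ, h1, ζ', h2, hne, e⟩ := vchar_nrm_two_sub hv (by simp [h.fb_one, hs.one]) hn
  have e1 : ζ * sg L - ζ' * sg L = ζ' - ζ := by
    rw [← sub_mul, ← e, ← neg_sub ζ ζ', ← e]
    funext x
    by_cases hx : x ∈ L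
    · simp [sg, hx, h.fb_L hx, triv_of_mem (mem_top x)]
    · simp [sg, hx]
  have e2 : ζ * sg L = ζ' := by
    rcases dirr_sub_eq (irr_dirr (hs.mul_mem_Irr h1)) (irr_dirr (hs.mul_mem_Irr h2)) (irr_dirr h2)
      (irr_dirr h1) (by rw [hs.dot_mul_mul le_rfl, dot_irr_ne h1 h2 hne]) e1 with e3 | e3
    · exact e3.1
    · have := congrFun e3.1 1
      simp only [Pi.mul_apply, hs.one, mul_one, Pi.neg_apply] at this
      exact absurd (by linear_combination this / 2) (irr_one_ne_zero h1)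
  have e3 := congrFun e a
  have e4 := congrFun e2 a
  simp only [Pi.add_apply, Pi.sub_apply, h.ind_a (vchar_CF h.fb_v), triv_of_mem (mem_top a), sg, h.aL,
    if_false, Pi.mul_apply] at e3 e4
  refine ⟨ζ, h1, ζ', h2, by linear_combination -e3 / 2 - e4 / 2, by linear_combination e3 / 2 - e4 / 2, ?_⟩
  rw [← dot_sub_right, ← e, dot_add_right, dot_sub_right, h.dab, h.da1, h.das]; norm_num

/-- the decomposition with the value at `a` -/
theorem dec : ∃ χ ∈ Irr (⊤ : Subgroup G), ∃ ξ ∈ Irr (⊤ : Subgroup G),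
    Ind U ⊤ (fa U ω) = χ - ξ - triv ⊤ ∧ (ξ a = 0 ∨ ξ a = -1) := by
  obtain ⟨χ, h1, ξ, h2, hne, n1, n2, e⟩ := h.dec_a
  obtain ⟨ζ, h3, ζ', h4, e1, e2, e3⟩ := h.dec_b
  refine ⟨χ, h1, ξ, h2, e, ?_⟩
  have e0 := congrFun e a
  rw [h.ind_a (vchar_CF h.fa_v)] at e0
  simp only [Pi.sub_apply, triv_of_mem (mem_top a)] at e0
  by_cases c1 : ξ = ζ
  · right; rw [c1, e1]
  by_cases c2 : χ = ζ'
  · left; rw [c2, e2] at e0; linear_combination e0
  exfalso
  have c3 : triv ⊤ ≠ ζ := fun c => by rw [← c, triv_of_mem (mem_top a)] at e1; norm_num at e1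
  rw [e] at e3
  simp only [dot_sub_left, dot_irr h1 h3, dot_irr h2 h3, dot_irr h1 h4, dot_irr h2 h4,
    dot_irr (triv_mem_Irr ⊤) h3, dot_irr (triv_mem_Irr ⊤) h4, if_neg c1, if_neg c2, if_neg c3] at e3
  split_ifs at e3 <;> norm_num at e3

end CD
end Cfsg.Agent.DH
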