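import Cfsg.Agent.DH.Ch2

/-! The class multiplication identity and the inequality. -/

set_option autoImplicit false
set_option linter.unusedSectionVars false

namespace Cfsg.Agent.DH

open Subgroup Cfsg.Agent.FT
open scoped Classical ComplexConjugate

universe u
variable {G : Type u} [Group G] [Finite G]
variable {L U : Subgroup G} {z a u : G} {ω : G → ℂ}

theorem sum_class (a : G) (f : G → ℂ) :
    ∑ g ∈ els ((⊤ : Subgroup G) : Set G), f (g * a * g⁻¹) =
      (♯(𝐂[a]) : ℂ) * ∑ b ∈ els {b | IsConj a b}, f b := by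
  rw [← Finset.sum_fiberwise_of_maps_to (s := els ((⊤ : Subgroup G) : Set G)) (t := els {b | IsConj a b})
    (g := fun g => g * a * g⁻¹) (fun g _ => mem_els.2 (isConj_iff.2 ⟨g, rfl⟩)), Finset.mul_sum]
  refine Finset.sum_congr rfl fun b hb => ?_
  obtain ⟨c, hc⟩ := isConj_iff.1 ((mem_els (A := {b | IsConj a b})).1 hb)
  rw [Finset.sum_congr rfl (g := fun _ => f b) fun g hg => by rw [(Finset.mem_filter.1 hg).2],
    Finset.sum_const, card_conj_eq (mem_top c) hc, top_inf_eq, nsmul_eq_mul]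

namespace CD
variable (h : CD L U z a u ω)
include h

theorem card_H : (♯(𝐂[z]) : ℂ) = 2 * ♯U := by
  have hU : (U : Set G) ⊆ (𝐂[z] : Subgroup G) := fun y hy =>
    mem_centralizer_singleton_iff.2 (h.UH y hy)
  have e2 : ∑ y ∈ els (((𝐂[z] : Subgroup G) : Set G) \ U), (1 : ℂ) = ∑ y ∈ els (U : Set G), (1 : ℂ) := by
    refine (sum_els_bij (fun _ => (1 : ℂ)) (fun y => y * a) (fun y => y * a) ?_ ?_ ?_ ?_).symm
    · intro y hy
      refine ⟨mem_centralizer_singleton_iff.2 ?_, fun e => h.aU ?_⟩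
      · show y * a * z = z * (y * a)
        rw [mul_assoc, h.az, ← mul_assoc, h.UH y hy, mul_assoc]
      · have := U.mul_mem (U.inv_mem hy) e
        rwa [inv_mul_cancel_left] at this
    · intro y hy
      exact (h.H2 y (mem_centralizer_singleton_iff.1 hy.1)).resolve_left hy.2
    · intro y _; show y * a * a = y; rw [mul_assoc, h.aa, mul_one]
    · intro y _; show y * a * a = y; rw [mul_assoc, h.aa, mul_one]
  have := sum_els_diff hU fun _ => (1 : ℂ)
  rw [e2, sum_els_const, sum_els_const] at this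
  linear_combination this

theorem line_a {b : G} (hb : IsConj a b) (hz : b * z = z * b) : b * a ∈ U := by
  obtain ⟨c, rfl⟩ := isConj_iff.1 hb
  exact (h.H2 _ hz).resolve_left h.conj_a_notin

theorem line_sq {b : G} (hb : IsConj a b) : b * b = 1 := by
  obtain ⟨c, rfl⟩ := isConj_iff.1 hb
  rw [show c * a * c⁻¹ * (c * a * c⁻¹) = c * (a * a) * c⁻¹ by group, h.aa]; group

theorem sum_line : ∑ b ∈ els {b | IsConj a b ∧ b * z = z * b}, ω (b * a) = 0 := by
  have e := sum_els_conj (A := {b | IsConj a b ∧ b * z = z * b}) (g := u) (fun b => by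
    have hu := h.UH u h.uU
    constructor
    · rintro ⟨h1, h2⟩
      refine ⟨h1.trans (isConj_iff.2 ⟨u, rfl⟩), ?_⟩
      have h3 : u⁻¹ * z = z * u⁻¹ := h.UH _ (U.inv_mem h.uU)
      show u * b * u⁻¹ * z = z * (u * b * u⁻¹)
      rw [mul_assoc, h3, ← mul_assoc, mul_assoc u, h2, ← mul_assoc, hu]; group
    · rintro ⟨h1, h2⟩
      refine ⟨h1.trans (isConj_iff.2 ⟨u⁻¹, by group⟩), ?_⟩
      have h3 : u⁻¹ * z = z * u⁻¹ := h.UH _ (U.inv_mem h.uU)
      calc b * z = u⁻¹ * (u * b * u⁻¹) * (u * z) := by group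
        _ = u⁻¹ * (u * b * u⁻¹ * z) * u := by rw [hu]; group
        _ = (u⁻¹ * z) * u * b := by rw [h2]; group
        _ = z * b := by rw [h3]; group) fun b => ω (b * a)
  have e2 : ∑ b ∈ els {b | IsConj a b ∧ b * z = z * b}, ω (u * b * u⁻¹ * a) =
      ω u ^ 2 * ∑ b ∈ els {b | IsConj a b ∧ b * z = z * b}, ω (b * a) := by
    rw [Finset.mul_sum]
    refine Finset.sum_congr rfl fun b hb => ?_
    obtain ⟨h1, h2⟩ := mem_els.1 hb
    have : u * b * u⁻¹ * a = u * ((b * a) * (a * u⁻¹ * a⁻¹)) := by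
      rw [h.ainv, show u * ((b * a) * (a * u⁻¹ * a)) = u * b * (a * a) * u⁻¹ * a by group, h.aa]; group
    rw [this, h.lin.map_mul_left h.uU, h.lin.map_mul_left (h.line_a h1 h2), h.inv _ (U.inv_mem h.uU),
      char_inv h.lin.char, Complex.conj_conj]
    ring
  rw [e2] at e
  have : (ω u ^ 2 - 1) * ∑ b ∈ els {b | IsConj a b ∧ b * z = z * b}, ω (b * a) = 0 := by
    linear_combination e
  exact (mul_eq_zero.1 this).resolve_left (sub_ne_zero.2 h.ωu)

theorem inv_AA {x : G} (hx : x ∈ AA U ω) : x⁻¹ ∈ AA U ω :=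
  ⟨U.inv_mem hx.1, by rw [h.lin.map_inv hx.1]; exact fun e => hx.2 (inv_eq_one.1 e)⟩

theorem sum_pairs : ∑ b ∈ els {b | IsConj a b}, ∑ c ∈ els {b | IsConj a b}, fa U ω (b * c) =
    - ((els {b | IsConj a b ∧ b * z = z * b}).card : ℂ) ^ 2 := by
  have sub : {b | IsConj a b ∧ b * z = z * b} ⊆ {b | IsConj a b} := fun _ hb => hb.1
  have key : ∀ b c, IsConj a b → IsConj a c → fa U ω (b * c) ≠ 0 → b * z = z * b ∧ c * z = z * c := by
    intro b c hb hc e
    have h1 := mem_of_supp h.fa_s e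
    have hb' := inv_eq_of_mul_eq_one_right (h.line_sq hb)
    have hc' := inv_eq_of_mul_eq_one_right (h.line_sq hc)
    have h2 := h.inv_AA h1
    rw [mul_inv_rev, hb', hc'] at h2
    refine ⟨h.conj_comm h1 ?_, h.conj_comm h2 ?_⟩
    · rwa [← mul_assoc, h.line_sq hb, one_mul, hb']
    · rwa [← mul_assoc, h.line_sq hc, one_mul, hc']
  rw [← sum_els_subset sub _ fun b hb hb' => Finset.sum_eq_zero fun c hc => by
    by_contra e; exact hb' ⟨hb, (key b c hb ((mem_els (A := {b | IsConj a b})).1 hc) e).1⟩]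
  rw [Finset.sum_congr rfl (g := fun b => ∑ c ∈ els {b | IsConj a b ∧ b * z = z * b},
    (ω (b * a) * ω (a * c) - 1)) fun b hb => ?_]
  · simp only [Finset.sum_sub_distrib, ← Finset.mul_sum, ← Finset.sum_mul, h.sum_line, Finset.sum_const]
    simp [sq]
  obtain ⟨h1, h2⟩ := mem_els.1 hb
  rw [← sum_els_subset sub _ fun c hc hc' => by
    by_contra e; exact hc' ⟨hc, (key b c h1 hc e).2⟩]
  refine Finset.sum_congr rfl fun c hc => ?_
  obtain ⟨h3, h4⟩ := mem_els.1 hc
  have h5 : a * c ∈ U := by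
    have := U.inv_mem (h.line_a h3 h4)
    rwa [mul_inv_rev, h.ainv, inv_eq_of_mul_eq_one_right (h.line_sq h3)] at this
  have h6 : b * c = (b * a) * (a * c) := by
    rw [show (b * a) * (a * c) = b * (a * a) * c by group, h.aa, mul_one]
  rw [h6]
  simp only [fa, Pi.sub_apply, triv_of_mem (U.mul_mem (h.line_a h1 h2) h5),
    h.lin.map_mul_left (h.line_a h1 h2)]

theorem sum_ind : ∑ g ∈ els ((⊤ : Subgroup G) : Set G), Ind U ⊤ (fa U ω) (a * (g * a * g⁻¹)) =
    - ((♯U : ℂ)⁻¹ * (♯(𝐂[a]) : ℂ) ^ 2 * ((els {b | IsConj a b ∧ b * z = z * b}).card : ℂ) ^ 2) := by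
  simp only [Ind_apply_supp ⊤ (cf_supp (vchar_CF h.fa_v))]
  rw [← Finset.mul_sum, Finset.sum_comm]
  rw [Finset.sum_congr rfl (g := fun y => (♯(𝐂[a]) : ℂ) * ∑ c ∈ els {b | IsConj a b},
    fa U ω (y * a * y⁻¹ * c)) fun y _ => ?_]
  · rw [← Finset.mul_sum, sum_class a fun b => ∑ c ∈ els {b | IsConj a b}, fa U ω (b * c), h.sum_pairs]
    ring
  rw [← sum_class a fun c => fa U ω (y * a * y⁻¹ * c),
    ← sum_els_mul_left (mem_top y) fun g => fa U ω (y * a * y⁻¹ * (g * a * g⁻¹))]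
  exact Finset.sum_congr rfl fun g _ => by congr 1; group

theorem fa_z : Ind U ⊤ (fa U ω) z = -4 := by
  rw [h.ind_val (vchar_CF h.fa_v) h.fa_s ⟨h.zU, by rw [h.ωz]; norm_num⟩, h.az, mul_inv_cancel_right]
  simp [fa, h.ωz, triv_of_mem h.zU]; norm_num

theorem ker_L {χ : G → ℂ} (hχ : χ ∈ Irr (⊤ : Subgroup G)) {x : G} (h1 : x ∈ cker χ) (h2 : x ∈ L)
    (h3 : x ≠ 1) : L ≤ cker χ :=
  h.min _ (normalizer_eq_top_iff.1 (top_le_iff.1 (cker_irr_nrm hχ).norm)) x h1 h2 h3

theorem not_two {χ ξ : G → ℂ} (h1 : χ ∈ Irr (⊤ : Subgroup G)) (h2 : ξ ∈ Irr (⊤ : Subgroup G))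
    (e : Ind U ⊤ (fa U ω) = χ - ξ - triv ⊤) (e1 : χ 1 = 3) (e2 : ξ 1 = 2) (e3 : ξ a = 0) : False := by
  have e4 := congrFun e z
  rw [h.fa_z] at e4
  simp only [Pi.sub_apply, triv_of_mem (mem_top z)] at e4
  obtain ⟨p, q, a1, a2, a3⟩ := val_invol (irr_char h1) h.z2
  obtain ⟨p', q', b1, b2, -⟩ := val_invol (irr_char h2) h.z2
  have z1 : z ≠ 1 := fun e => by have := h.z2; rw [e, orderOf_one] at this; omega
  have c1 : p + q = 3 := by rw [e1] at a1; exact_mod_cast a1.symm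
  have c2 : p' + q' = 2 := by rw [e2] at b1; exact_mod_cast b1.symm
  have c3 : (p : ℤ) - q - (p' - q') = -3 := by
    have : ((p : ℂ) - q) - (p' - q') = -3 := by rw [← a2, ← b2]; linear_combination -e4
    exact_mod_cast this
  by_cases hp : p = 0
  · obtain ⟨g, hg⟩ := h.zc
    have k1 : z * (g * z * g⁻¹) ∈ cker χ := fun y => by
      rw [mul_assoc, a3 hp, show g * z * g⁻¹ * y = g * (z * (g⁻¹ * y * g)) * g⁻¹ by group,
        cfJ (irr_CF h1) (mem_top g), a3 hp, cfJ' (irr_CF h1) (mem_top g), neg_neg]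
    have k2 := h.ker_L h1 k1 (L.mul_mem h.zL (h.Ln.conj_mem _ h.zL g)) fun e => hg (by
      rw [← inv_eq_of_mul_eq_one_right e, inv_eq_of_mul_eq_one_right (sq_of_two h.z2)])
    have k3 := cker_apply (k2 h.zL)
    have k4 := a3 hp 1
    rw [mul_one, k3, e1] at k4; norm_num at k4
  · have hq : q' = 0 := by omega
    have k2 := h.ker_L h2 (mem_cker_char (irr_char h2) (mem_top z) (by rw [b1, b2, hq]; simp)) h.zL z1
    have k3 := dot_irr_self h2
    have k4 : ∀ x, x ∉ L → ξ x = 0 := fun x hx => by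
      have : x * a⁻¹ ∈ L := by rw [mul_mem_iff_of_index_two h.idx, inv_mem_iff]; simp [hx, h.aL]
      rw [← e3, ← k2 this a, inv_mul_cancel_right]
    rw [dot_eq_of_supp (A := (L : Set G)) (fun _ _ => mem_top _) (mem_supp.2 k4),
      Finset.sum_congr rfl (g := fun _ => (4 : ℂ)) fun x hx => by
        rw [cker_apply (k2 (mem_els.1 hx)), e2, map_ofNat]; norm_num, sum_els_const] at k3
    have k5 : (♯L : ℂ) * 2 = ♯(⊤ : Subgroup G) := by
      rw [card_top, ← L.card_mul_index, h.idx]; push_cast; ring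
    rw [← k5] at k3
    have := cardC_ne_zero L
    field_simp at k3; norm_num at k3

theorem ineq : (Nat.card {b // IsConj a b}) ^ 2 <
    3 * (Nat.card {b // IsConj a b ∧ b * z = z * b}) ^ 2 * (𝐂[z] : Subgroup G).index := by
  obtain ⟨χ, h1, ξ, h2, e, hx⟩ := h.dec
  have s0 := h.sum_ind
  have s1 := irr_mul_sum h1 (mem_top a) (mem_top a)
  have s2 := irr_mul_sum h2 (mem_top a) (mem_top a)
  have ea := congrFun e a
  have e1 := congrFun e 1
  rw [h.ind_a (vchar_CF h.fa_v)] at ea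
  rw [h.fa_one] at e1
  simp only [Pi.sub_apply, triv_of_mem (mem_top _)] at ea e1
  rw [e] at s0
  simp only [Pi.sub_apply, triv_of_mem (mem_top _), Finset.sum_sub_distrib, sum_els_const] at s0
  have m1 : (els {b | IsConj a b ∧ b * z = z * b}).card = Nat.card {b // IsConj a b ∧ b * z = z * b} := by
    rw [card_els', ← Nat.card_coe_set_eq]; rfl
  have m2 : (♯(⊤ : Subgroup G) : ℂ) = ♯(𝐂[a]) * Nat.card {b // IsConj a b} := by
    have := sum_class a fun _ => 1
    rw [sum_els_const, Finset.sum_const, card_els', ← Nat.card_coe_set_eq] at this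
    rw [mul_one, nsmul_eq_mul, mul_one] at this
    exact this
  have m3 : (♯(⊤ : Subgroup G) : ℂ) = 2 * ♯U * (𝐂[z] : Subgroup G).index := by
    rw [← h.card_H, card_top, ← (𝐂[z] : Subgroup G).card_mul_index]; push_cast; ring
  rw [m1] at s0
  generalize Nat.card {b // IsConj a b ∧ b * z = z * b} = m at *
  generalize Nat.card {b // IsConj a b} = N at *
  generalize (𝐂[z] : Subgroup G).index = M at *
  have hd := irr_one h2
  have hd0 := deg_irr_pos h2
  have n2 := fun a b c => h.not_two h1 h2 e a b c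
  obtain ⟨p, q, v1, v2, -⟩ := val_invol (irr_char h2) h.a2
  generalize deg ξ = d at *
  have c0 := cardC_ne_zero (𝐂[a] : Subgroup G)
  have u0 := cardC_ne_zero U
  have g0 := cardC_ne_zero (⊤ : Subgroup G)
  have d0 : (d : ℂ) ≠ 0 := by exact_mod_cast hd0.ne'
  have d1 : (d : ℂ) + 1 ≠ 0 := by exact_mod_cast (Nat.succ_pos d).ne'
  have N0 : 0 < N := Nat.pos_of_ne_zero fun e => g0 (by rw [m2, e]; simp)
  have x1 : χ 1 = d + 1 := by linear_combination -e1 + hd
  have x2 : χ a = ξ a + 1 := by linear_combination -ea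
  -- the identity
  have key : (2 * M * m ^ 2 * (d * (d + 1)) : ℂ) = (d - ξ a) ^ 2 * N ^ 2 := by
    rw [x1, x2] at s1
    rw [hd] at s2
    generalize (∑ g ∈ els ((⊤ : Subgroup G) : Set G), χ (a * (g * a * g⁻¹))) = S1 at *
    generalize (∑ g ∈ els ((⊤ : Subgroup G) : Set G), ξ (a * (g * a * g⁻¹))) = S2 at *
    generalize (♯(⊤ : Subgroup G) : ℂ) = g at *
    generalize (♯(𝐂[a]) : ℂ) = c at *
    generalize (♯U : ℂ) = w at *
    have t1 : c ^ 2 * m ^ 2 * (d * (d + 1)) = w * g * (d - ξ a) ^ 2 := by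
      have s3 : w * (S1 - S2 - g) = - (c ^ 2 * m ^ 2) := by
        rw [mul_one] at s0; rw [s0]; field_simp
      linear_combination (d * (d + 1)) * s3 - w * d * s1 + w * (d + 1) * s2
    have t2 : w * g * (2 * M * m ^ 2 * (d * (d + 1))) = w * g * ((d - ξ a) ^ 2 * N ^ 2) := by
      linear_combination N ^ 2 * t1 - (g * m ^ 2 * (d * (d + 1))) * m3 +
        (m ^ 2 * (d * (d + 1)) * (g + c * N)) * m2
    exact mul_left_cancel₀ (mul_ne_zero u0 g0) t2
  rcases hx with hx | hx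
  · rw [hx, sub_zero] at key
    have k1 : 2 * M * m ^ 2 * (d * (d + 1)) = d ^ 2 * N ^ 2 := by exact_mod_cast key
    have k2 : 2 * M * m ^ 2 * (d + 1) = d * N ^ 2 := Nat.eq_of_mul_eq_mul_left hd0 (by nlinarith)
    have k3 : 3 ≤ d := by
      have a1 : p + q = d := by rw [hd] at v1; exact_mod_cast v1.symm
      have a2 : p = q := by rw [hx] at v2; exact_mod_cast (sub_eq_zero.1 v2.symm)
      by_contra c
      have : d = 2 := by omega
      subst this
      exact n2 (by rw [x1]; norm_num) (by rw [hd]; norm_num) hx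
    have k4 : 0 < N ^ 2 := by positivity
    nlinarith
  · rw [hx, sub_neg_eq_add] at key
    have k1 : 2 * M * m ^ 2 * (d * (d + 1)) = (d + 1) ^ 2 * N ^ 2 := by exact_mod_cast key
    have k2 : 2 * M * m ^ 2 * d = (d + 1) * N ^ 2 := Nat.eq_of_mul_eq_mul_left (Nat.succ_pos d) (by nlinarith)
    have k4 : 0 < N ^ 2 := by positivity
    nlinarith

end CD
end Cfsg.Agent.DH
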